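import Groth.Agent.L12.KNil.Lines
import Groth.Agent.L12.KBun.Basis
import Groth.Agent.L12.KBun.Exist
import Groth.Agent.L12.KBun.Dim
import Groth.Agent.L12.KBun.Transfer
import Groth.Agent.L13.ElemExt.Gamma

/-!
# The gamma filtration of `K(X)` vanishes above the dimension
-/

set_option autoImplicit false
set_option maxHeartbeats 800000
set_option linter.style.haveILetI false
set_option linter.unusedSectionVars false
set_option backward.isDefEq.respectTransparency false
set_option backward.isDefEq.respectTransparency.types false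

universe v u

open CategoryTheory CategoryTheory.Limits AlgebraicGeometry TopologicalSpace Opposite LambdaRing

attribute [local instance] HasDerivedCategory.standard

noncomputable section

namespace Groth.L12.KNil

open Groth.L08.Lambda (gamma_zero gamma_add gamma_zero_arg coeff_gammaSeries gammaSeries_sub_one)

/-- `γ^j` of a bundle minus its rank, over a list. -/
def gprod {X : Scheme.{u}} {K : Type v} [CommRing K] [LambdaOps K] (φ : SGA6.Kvb X →+ K)
    (Es : List (ℕ × ℕ × X.Modules)) : K :=
  (Es.map fun p => gamma p.2.1 (φ (_root_.KRR.cl X p.2.2) - (p.1 : K))).prod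

theorem gamma_sub_line {K : Type v} [CommRing K] [LambdaOps K] (P : PosStructure K) {u : K} (hu : P.IsLine u) (w : K)
    (j : ℕ) : gamma (j + 1) (w + (u - 1)) = gamma (j + 1) w + gamma j w * (u - 1) := by
  have h1 := fun i hi => Groth.L22.Lambda.lam_eq_zero_of_isLine P (Groth.L22.Lambda.isLine_one P) (i := i) hi
  have hl : ∀ i, gamma i (u - 1) = if i = 0 then 1 else if i = 1 then u - 1 else 0 := fun i => by
    rw [← coeff_gammaSeries, gammaSeries_sub_one h1
      fun i hi => Groth.L22.Lambda.lam_eq_zero_of_isLine P hu hi, Groth.L22.Lambda.coeff_one_add_C_mul_X]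
  rw [gamma_add, Finset.sum_range_succ, Finset.sum_range_succ, Finset.sum_eq_zero fun i hi => ?_]
  · rw [Nat.sub_self, Nat.add_sub_cancel_left, hl 0, hl 1, if_pos rfl, if_neg one_ne_zero, if_pos rfl]
    ring
  · have := Finset.mem_range.1 hi
    rw [hl, if_neg (by omega), if_neg (by omega), mul_zero]

/-- The vanishing, by induction along projective bundles. -/
theorem lines_mul_gprod_eq_zero : ∀ (n : ℕ) (X : Scheme.{u}) [IsNoetherian X] [ConnectedSpace X]
    (K : Type (u + 1)) [CommRing K] [LambdaOps K] (PK : PosStructure K) (φ : SGA6.Kvb X →+ K),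
    _root_.KRR.IsModel X K PK φ → ∀ (L : X.Modules), CohB1.IsAmple L →
    ∀ (D : ℕ), topologicalKrullDim ↥X ≤ (D : WithBot ℕ∞) →
    ∀ (Ls : List X.Modules) (Es : List (ℕ × ℕ × X.Modules)), (∀ M ∈ Ls, PicF.IsInvertible M) →
    (∀ p ∈ Es, FlatMod.IsFinLocFreeOfRank p.1 p.2.2) → (Es.map fun p => p.1 + 1).sum ≤ n →
    D < Ls.length + (Es.map fun p => p.2.1).sum →
    (Ls.map fun M => φ (_root_.KRR.cl X M) - 1).prod * gprod φ Es = 0
  | _, X, _, _, K, _, _, PK, φ, hK, L, hL, D, hD, Ls, [], hLs, _, _, hlen => by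
    rw [prod_line_sub_one_eq_zero hK hL hD Ls hLs (by simpa using hlen), zero_mul]
  | 0, X, _, _, K, _, _, PK, φ, hK, L, hL, D, hD, Ls, p :: Es, _, _, hn, _ => by simp at hn
  | n + 1, X, _, _, K, _, _, PK, φ, hK, L, hL, D, hD, Ls, (0, j, E) :: Es, hLs, hEs, hn, hlen => by
    have hE := hEs _ (List.mem_cons_self ..)
    have h0 : φ (_root_.KRR.cl X E) = 0 := by
      rw [show _root_.KRR.cl X E = 0 from Groth.L29.KSub.clSub_zero (_root_.KRR.vbP X)
        (Groth.L12.Kvb.isZero_of_rank_zero hE) (Groth.L18.KRRAmple.isFinLocFree_of_rank hE), map_zero]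
    show _ * (gamma j (φ (_root_.KRR.cl X E) - ((0 : ℕ) : K)) * gprod φ Es) = 0
    rw [h0, Nat.cast_zero, sub_zero]
    rcases Nat.eq_zero_or_pos j with rfl | hj
    · rw [gamma_zero, one_mul]
      refine lines_mul_gprod_eq_zero n X K PK φ hK L hL D hD Ls Es hLs
        (fun q hq => hEs q (List.mem_cons_of_mem _ hq)) ?_ (by simpa using hlen)
      simp only [List.map_cons, List.sum_cons] at hn
      omega
    · rw [gamma_zero_arg j hj, zero_mul, mul_zero]
  | n + 1, X, _, _, K, _, _, PK, φ, hK, L, hL, D, hD, Ls, (r + 1, j, E) :: Es, hLs, hEs, hn, hlen => by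
    have hE : FlatMod.IsFinLocFreeOfRank (r + 1) E := hEs _ (List.mem_cons_self ..)
    obtain ⟨Y, π, O1, q, hPB, hY, hYc⟩ := Groth.L12.KBun.exists_projBundle X hE
    have hKY := Groth.L12.Kvb.isModel (X := Y)
    obtain ⟨g, hg⟩ := Groth.L12.KRR.exists_isPull π (φX := Groth.L12.Kvb.toKR Y) hK.bijective
    obtain ⟨A⟩ := Groth.L12.KBun.exists_atlas hPB hE
    obtain ⟨Li, DD⟩ := Groth.L12.KBun.exists_data hPB hE hK hKY hg
    haveI := Groth.L29.DC.PCQCoh.isQCoh_of_isFinLocFree DD.vbE
    haveI := Groth.L29.DC.PCQCoh.isQCoh_of_isFinLocFree DD.vbW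
    haveI := Groth.L29.DC.PCQCoh.isQCoh_of_isFinLocFree (Groth.L18.KRRAmple.isFinLocFree_of_rank hPB.invertible)
    obtain ⟨Q, hQ⟩ := Groth.L12.KRR.exists_pullHom hKY hK hg
    obtain ⟨M, hM⟩ := A.exists_isAmple DD.hO hL
    have hDY : topologicalKrullDim ↥Y ≤ ((D + r : ℕ) : WithBot ℕ∞) :=
      A.topologicalKrullDim_le.trans ((add_le_add hD le_rfl).trans_eq (Nat.cast_add D r).symm)
    set ψ := Groth.L12.Kvb.toKR Y
    set ℓ := ψ (_root_.KRR.cl Y O1)
    let Ls' : List Y.Modules := Ls.map fun N => (Scheme.Modules.pullback π).obj N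
    let Es' : List (ℕ × ℕ × Y.Modules) := Es.map fun p => (p.1, p.2.1, (Scheme.Modules.pullback π).obj p.2.2)
    have hLs' : ∀ N ∈ Ls', PicF.IsInvertible N := fun N hN => by
      obtain ⟨N', hN', rfl⟩ := List.mem_map.1 hN
      exact Groth.L18.Ample.isInvertible_pullback π (hLs N' hN')
    have hEs' : ∀ p ∈ Es', FlatMod.IsFinLocFreeOfRank p.1 p.2.2 := fun p hp => by
      obtain ⟨p', hp', rfl⟩ := List.mem_map.1 hp
      exact Groth.L18.MapEpi.isFinLocFreeOfRank_pullback π (hEs p' (List.mem_cons_of_mem _ hp'))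
    set w := ψ (_root_.KRR.cl Y (Groth.L12.KBun.tautSC q).X₁)
    have hW := Groth.L12.KBun.rank_taut hPB hE
    have hline := Groth.L12.KBun.isLine_O1 hPB hKY
    simp only [List.map_cons, List.sum_cons] at hn hlen
    have key : ∀ c j', D + r < r + c + Ls.length + (j' + (Es.map fun p => p.2.1).sum) →
        (ℓ - 1) ^ (r + c) * ((Ls'.map fun N => ψ (_root_.KRR.cl Y N) - 1).prod *
          (gamma j' (w - (r : Groth.L12.Kvb.KR Y)) * gprod ψ Es')) = 0 := fun c j' hlt => by
      have h := lines_mul_gprod_eq_zero n Y _ _ ψ hKY M hM (D + r) hDY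
        (List.replicate (r + c) O1 ++ Ls') ((r, j', (Groth.L12.KBun.tautSC q).X₁) :: Es')
        (fun N hN => (List.mem_append.1 hN).elim (fun h => List.eq_of_mem_replicate h ▸ DD.hO) (hLs' N))
        (fun p hp => (List.mem_cons.1 hp).elim (fun h => h ▸ hW) (hEs' p))
        (by simp only [Es', List.map_cons, List.sum_cons, List.map_map, Function.comp_def]; omega)
        (by simpa [Es', Ls', List.map_map, Function.comp_def] using hlt)
      rw [List.map_append, List.prod_append, List.map_replicate, List.prod_replicate] at h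
      exact (mul_assoc _ _ _).symm.trans h
    have hQL : Q ((Ls.map fun N => φ (_root_.KRR.cl X N) - 1).prod) =
        (Ls'.map fun N => ψ (_root_.KRR.cl Y N) - 1).prod := by
      rw [map_list_prod, List.map_map, List.map_map]
      refine congrArg List.prod (List.map_congr_left fun N hN => ?_)
      show Q (_ - 1) = _
      rw [map_sub, map_one, hQ, hg N (Groth.L16.Existence.isFinLocFree_of_isInvertible (hLs N hN))]
      rfl
    have hQE : Q (gprod φ Es) = gprod ψ Es' := by
      rw [gprod, gprod, map_list_prod, List.map_map, List.map_map]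
      refine congrArg List.prod (List.map_congr_left fun p hp => ?_)
      show Q (gamma p.2.1 _) = _
      rw [hQ, Groth.L12.KRR.pull_gamma hKY hK hg, ← hQ, map_sub, map_natCast, hQ,
        hg p.2.2 (Groth.L18.KRRAmple.isFinLocFree_of_rank (hEs p (List.mem_cons_of_mem _ hp)))]
      rfl
    set y := (Ls.map fun N => φ (_root_.KRR.cl X N) - 1).prod * gprod φ ((r + 1, j, E) :: Es)
    have hy : (ℓ - 1) ^ r * Q y = 0 := by
      have hj : Q (gamma j (φ (_root_.KRR.cl X E) - ((r + 1 : ℕ) : K))) =
          gamma j ((w - (r : Groth.L12.Kvb.KR Y)) + (ℓ - 1)) := by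
        rw [hQ, Groth.L12.KRR.pull_gamma hKY hK hg, ← hQ, map_sub, map_natCast, hQ, hg E DD.vbE,
          Groth.L12.KBun.cl_pull_eq hPB hE (Groth.L29.LocFree.pullback π DD.vbE)]
        refine congrArg (gamma j) ?_
        push_cast
        ring
      rw [map_mul, hQL, show gprod φ ((r + 1, j, E) :: Es) =
        gamma j (φ (_root_.KRR.cl X E) - ((r + 1 : ℕ) : K)) * gprod φ Es from rfl, map_mul, hj, hQE]
      rcases Nat.eq_zero_or_pos j with rfl | hjp
      · rw [gamma_zero]
        have := key 0 0 (by omega)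
        rwa [gamma_zero, Nat.add_zero] at this
      · obtain ⟨j, rfl⟩ : ∃ j', j = j' + 1 := ⟨j - 1, by omega⟩
        rw [gamma_sub_line _ hline]
        have h1 := key 0 (j + 1) (by omega)
        have h2 := key 1 j (by omega)
        rw [Nat.add_zero] at h1
        rw [pow_succ] at h2
        linear_combination h1 + h2
    have hsum : ∑ i ∈ Finset.range (r + 1),
        g (y * ((r.choose i : K) * (-1) ^ (r - i))) * ℓ ^ i = 0 := by
      rw [← hy, sub_eq_add_neg, add_pow, Finset.sum_mul]
      refine Finset.sum_congr rfl fun i _ => ?_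
      simp only [← hQ, map_mul, map_natCast, map_pow, map_neg, map_one]
      ring
    have := DD.indep A hsum (le_refl r)
    simpa using this

/-- Products of `γ^j([E] - r)` of total weight above the dimension vanish. -/
theorem gprod_eq_zero {X : Scheme.{u}} [IsNoetherian X] [ConnectedSpace X] {K : Type (u + 1)} [CommRing K]
    [LambdaOps K] {PK : PosStructure K} {φ : SGA6.Kvb X →+ K} (hK : _root_.KRR.IsModel X K PK φ) {L : X.Modules}
    (hL : CohB1.IsAmple L) {D : ℕ} (hD : topologicalKrullDim ↥X ≤ (D : WithBot ℕ∞))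
    (Es : List (ℕ × ℕ × X.Modules)) (hEs : ∀ p ∈ Es, FlatMod.IsFinLocFreeOfRank p.1 p.2.2)
    (h : D < (Es.map fun p => p.2.1).sum) : gprod φ Es = 0 := by
  simpa using lines_mul_gprod_eq_zero _ X K PK φ hK L hL D hD [] Es (by simp) hEs le_rfl (by simpa using h)

/-- The gamma filtration vanishes above the dimension. -/
theorem gammaFiltration_eq_bot {X : Scheme.{u}} [IsNoetherian X] [ConnectedSpace X] {K : Type (u + 1)} [CommRing K]
    [LambdaOps K] {PK : PosStructure K} {φ : SGA6.Kvb X →+ K} (hK : _root_.KRR.IsModel X K PK φ) {L : X.Modules}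
    (hL : CohB1.IsAmple L) {D : ℕ} (hD : topologicalKrullDim ↥X ≤ (D : WithBot ℕ∞)) :
    gammaFiltration PK (D + 1) = ⊥ := by
  let W : ℕ → AddSubgroup K := fun n => AddSubgroup.closure
    {z | ∃ Es : List (ℕ × ℕ × X.Modules), (∀ p ∈ Es, FlatMod.IsFinLocFreeOfRank p.1 p.2.2) ∧
      n ≤ (Es.map fun p => p.2.1).sum ∧ z = gprod φ Es}
  have hone : (1 : K) ∈ W 0 := AddSubgroup.subset_closure ⟨[], by simp, le_rfl, rfl⟩
  have hanti : ∀ {i k}, i ≤ k → W k ≤ W i := fun h => AddSubgroup.closure_mono
    fun z ⟨Es, h1, h2, h3⟩ => ⟨Es, h1, h.trans h2, h3⟩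
  have hmul : ∀ {i k : ℕ} {x y : K}, x ∈ W i → y ∈ W k → x * y ∈ W (i + k) := by
    intro i k x y hx hy
    have h : W i ≤ (W (i + k)).comap (AddMonoidHom.mulRight y) := (AddSubgroup.closure_le _).2 (by
      rintro _ ⟨Es, hE, hw, rfl⟩
      have h' : W k ≤ (W (i + k)).comap (AddMonoidHom.mulLeft (gprod φ Es)) := (AddSubgroup.closure_le _).2 (by
        rintro _ ⟨Fs, hF, hw', rfl⟩
        exact AddSubgroup.subset_closure ⟨Es ++ Fs, fun p hp => (List.mem_append.1 hp).elim (hE p) (hF p),
          by rw [List.map_append, List.sum_append]; omega, by simp [gprod]⟩)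
      exact h' hy)
    exact h hx
  let S : AddSubgroup K :=
    { carrier := {z | ∀ n, gamma n z ∈ W n}
      zero_mem' := fun n => by
        rcases Nat.eq_zero_or_pos n with rfl | hn
        · rw [gamma_zero]; exact hone
        · rw [gamma_zero_arg n hn]; exact zero_mem _
      add_mem' := fun {a b} ha hb n => by
        rw [gamma_add]
        refine sum_mem fun i hi => ?_
        have h2 := hmul (ha i) (hb (n - i))
        rwa [Nat.add_sub_cancel' (by have := Finset.mem_range.1 hi; omega)] at h2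
      neg_mem' := fun {a} ha n => by
        induction n using Nat.strong_induction_on with
        | _ n ih =>
          rcases Nat.eq_zero_or_pos n with rfl | hn
          · rw [gamma_zero]; exact hone
          have h3 := gamma_add n a (-a)
          rw [add_neg_cancel, gamma_zero_arg n hn, Finset.sum_range_succ', gamma_zero, one_mul, Nat.sub_zero,
            eq_comm] at h3
          rw [eq_neg_of_add_eq_zero_right h3]
          refine neg_mem (sum_mem fun i hi => ?_)
          have := Finset.mem_range.1 hi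
          have h2 := hmul (ha (i + 1)) (ih (n - (i + 1)) (by omega))
          rwa [Nat.add_sub_cancel' (by omega)] at h2 }
  have hgen : ∀ (r : ℕ) (E : X.Modules), FlatMod.IsFinLocFreeOfRank r E → φ (_root_.KRR.cl X E) - (r : K) ∈ S :=
    fun r E hE n => AddSubgroup.subset_closure ⟨[(r, n, E)], by simpa using hE, by simp, by simp [gprod]⟩
  have hS : ∀ x, PK.aug x = 0 → x ∈ S := fun x hx => by
    obtain ⟨E, F, hE, hF, rfl⟩ := Groth.L12.KRR.exists_sub_cl hK x
    obtain ⟨r, hr⟩ := Groth.L18.KRRAmple.exists_rank hE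
    obtain ⟨r', hr'⟩ := Groth.L18.KRRAmple.exists_rank hF
    rw [map_sub, hK.aug_cl r E hr, hK.aug_cl r' F hr', sub_eq_zero] at hx
    obtain rfl : r = r' := by exact_mod_cast hx
    rw [← sub_sub_sub_cancel_right _ _ (r : K)]
    exact sub_mem (hgen r E hr) (hgen r F hr')
  refine eq_bot_iff.2 ?_
  rw [gammaFiltration, if_neg (Nat.succ_ne_zero D), AddSubgroup.closure_le]
  rintro y ⟨l, hl, hw, rfl⟩
  have hW : W (D + 1) ≤ ⊥ := (AddSubgroup.closure_le _).2 (by
    rintro _ ⟨Es, hE, hEw, rfl⟩
    exact gprod_eq_zero hK hL hD Es hE (by omega))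
  refine hW (hanti hw ?_)
  clear hw
  induction l with
  | nil => simpa using hone
  | cons p l ih =>
    simp only [List.map_cons, List.sum_cons, List.prod_cons]
    exact hmul (hS p.2 (hl p (List.mem_cons_self ..)) p.1) (ih fun p' hp' => hl p' (List.mem_cons_of_mem _ hp'))

end Groth.L12.KNil
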