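import Groth.Agent.L12.KNil.Cube
import Groth.Agent.L12.KRR.Pull
import Groth.Agent.L18.Grass.GrassGeom
import Groth.Agent.L18.ExtendQCoh
import Groth.Agent.L12.ExtSh.TensBasis
import Groth.Agent.L18.Grass.GrassProper
import Groth.Agent.L18.KRRAmple

/-!
# The augmentation ideal of `K(X)` is nil when `X` has an ample module
-/

set_option autoImplicit false
set_option maxHeartbeats 400000
set_option linter.style.haveILetI false
set_option linter.unusedSectionVars false
set_option backward.isDefEq.respectTransparency false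
set_option backward.isDefEq.respectTransparency.types false

universe v u

open CategoryTheory CategoryTheory.Limits AlgebraicGeometry TopologicalSpace Opposite

attribute [local instance] HasDerivedCategory.standard

noncomputable section

namespace Groth.L12.KNil

open Groth.L18.Frame (rs ro rs_rs rs_self IsFrame)
open Groth.L18.Ample (tw it pw)
open Groth.L19.ProjBdl (IsBasisOn lc app_lc app_rs lc_mono)
open Groth.L18.GenLoc (tens)

variable {X : Scheme.{u}}

theorem isBasisOn_reindex {M : X.Modules} {W : X.Opens} {n m : ℕ} {b : Fin n → Γ(M, W)}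
    (hb : IsBasisOn M W b) (σ : Fin m ≃ Fin n) : IsBasisOn M W (b ∘ σ) := fun V h => by
  have e : lc M (b ∘ σ) h = lc M b h ∘ fun c => c ∘ σ.symm := funext fun c => by
    show ∑ i, c i • rs M h (b (σ i)) = ∑ j, c (σ.symm j) • rs M h (b j)
    rw [← σ.sum_comp fun j => c (σ.symm j) • rs M h (b j)]
    simp
  rw [e]
  exact (hb V h).comp (Equiv.arrowCongr σ (Equiv.refl _)).bijective

theorem isBasisOn_of_isFrame {L : X.Modules} {W : X.Opens} {ε : Γ(L, W)} (h : IsFrame L W ε) :
    IsBasisOn L W fun _ : Fin 1 => ε := fun V hV => by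
  have e : lc L (fun _ : Fin 1 => ε) hV = (fun a => a • rs L hV ε) ∘ fun c => c 0 := funext fun c => by
    show ∑ i : Fin 1, c i • rs L hV ε = c 0 • rs L hV ε
    rw [Fin.sum_univ_one]
  rw [e]
  exact (h V hV).comp (Equiv.funUnique (Fin 1) Γ(X, V)).bijective

/-- A basis of `E` on `X_s` gives one of `E ⊗ L^k`. -/
theorem isBasisOn_it {E M : X.Modules} {s : Coh.structureModule X ⟶ M} {n : ℕ}
    {b : Fin n → Γ(E, CohB1.genLocus M s)} (hb : IsBasisOn E (CohB1.genLocus M s) b) :
    ∀ k : ℕ, IsBasisOn (tw E M k) (CohB1.genLocus M s)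
      fun i => it (Groth.L18.GenLoc.secOf s) (CohB1.genLocus M s) (b i) k
  | 0 => hb
  | k + 1 => by
    have h := isBasisOn_reindex (Groth.L12.ExtSh.isBasisOn_tens (isBasisOn_it hb k)
      (isBasisOn_of_isFrame (Groth.L18.GenLoc.isFrame_genLocus s)))
      ((Equiv.prodUnique (Fin n) (Fin 1)).symm.trans finProdFinEquiv)
    show IsBasisOn (CohB1.tensorMod (tw E M k) M) _ _
    refine Eq.mp (congrArg (IsBasisOn (CohB1.tensorMod (tw E M k) M) (CohB1.genLocus M s)) ?_) h
    funext i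
    simp only [Function.comp_apply, Equiv.trans_apply, Equiv.symm_apply_apply]
    rfl

/-- A trivialisation over `X_s` comes from a morphism to a twist. -/
theorem exists_trivialising [CompactSpace X] [QuasiSeparatedSpace X] {E M : X.Modules} [Coh.IsQCoh E]
    (hM : PicF.IsInvertible M) (s : Coh.structureModule X ⟶ M) {r : ℕ}
    {b : Fin r → Γ(E, CohB1.genLocus M s)} (hb : IsBasisOn E (CohB1.genLocus M s) b) :
    ∃ (k : ℕ) (φ : FlatMod.freeMod X r ⟶ tw E M k),
      IsIso ((Scheme.Modules.pullback (CohB1.genLocus M s).ι).map φ) := by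
  let G := CohB1.genLocus M s
  let σ := Groth.L18.GenLoc.secOf s
  choose k t ht using fun i => Groth.L18.Ample.exists_extend_qcoh hM s (b i)
  obtain ⟨K, hK⟩ := (Set.finite_range k).bddAbove
  let t' : Fin r → Γ(tw E M K, ⊤) := fun i =>
    cast (congrArg (fun m => (Γ(tw E M m, ⊤) : Type u)) (Nat.add_sub_of_le (hK ⟨i, rfl⟩)))
      (Groth.L18.Ample.up E σ ⊤ (K - k i) (t i))
  have ht' : ∀ i, rs (tw E M K) le_top (t' i) = it σ G (b i) K := fun i => by
    have key : ∀ (m : ℕ) (hm : k i + (K - k i) = m), rs (tw E M m) le_top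
        (cast (congrArg (fun m => (Γ(tw E M m, ⊤) : Type u)) hm) (Groth.L18.Ample.up E σ ⊤ (K - k i) (t i))) =
          it σ G (b i) m := by
      rintro m rfl
      rw [cast_eq, Groth.L18.Ample.up_rs, ht, Groth.L18.Ample.up_it]
    exact key K (Nat.add_sub_of_le (hK ⟨i, rfl⟩))
  let φ := Groth.L18.QuotBasis.freeHom (tw E M K) t'
  refine ⟨K, φ, ?_⟩
  have hu : IsBasisOn (FlatMod.freeMod X r) G fun i => rs _ le_top (Groth.L18.QuotBasis.uvec X r i) :=
    Groth.L18.GrassProper.isBasisOn_uvec X r G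
  have happ : ∀ (V : X.Opens), V ≤ G → Function.Bijective (φ.app V) := fun V hV => by
    have e : (φ.app V : _ → _) ∘ lc (FlatMod.freeMod X r) (fun i => rs _ le_top (Groth.L18.QuotBasis.uvec X r i)) hV =
        lc (tw E M K) (fun i => it σ G (b i) K) hV := funext fun c => by
      refine (app_lc φ _ hV c).trans (congrArg (fun l => lc (tw E M K) l hV c) (funext fun i => ?_))
      show φ.app G (rs _ le_top _) = _
      rw [app_rs, Groth.L18.QuotBasis.freeHom_uvec, ht']
    exact (Function.Bijective.of_comp_iff _ (hu V hV)).1 (e ▸ isBasisOn_it hb K V hV)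
  rw [← NatIso.isIso_map_iff (Scheme.Modules.restrictFunctorIsoPullback G.ι) φ,
    Scheme.Modules.Hom.isIso_iff_isIso_app]
  intro U
  rw [ConcreteCategory.isIso_iff_bijective]
  exact happ (G.ι ''ᵁ U) (G.ι_image_le U)

variable {K : Type v} [CommRing K] [LambdaRing.LambdaOps K] {PK : LambdaRing.PosStructure K}
  {φK : SGA6.Kvb X →+ K}

theorem cl_tw (hK : _root_.KRR.IsModel X K PK φK) {E M : X.Modules} (hE : FlatMod.IsFinLocFree E)
    (hM : FlatMod.IsFinLocFree M) : ∀ k : ℕ, FlatMod.IsFinLocFree (tw E M k) ∧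
      φK (_root_.KRR.cl X (tw E M k)) = φK (_root_.KRR.cl X E) * φK (_root_.KRR.cl X M) ^ k
  | 0 => ⟨hE, by rw [pow_zero, mul_one]; rfl⟩
  | k + 1 => by
    obtain ⟨h, e⟩ := cl_tw hK hE hM k
    refine ⟨Groth.L29.DC.isFinLocFree_tensor h hM, ?_⟩
    rw [pow_succ, ← mul_assoc, ← e, hK.map_mul _ _ h hM]
    rfl

variable [ConnectedSpace X]

/-- A finite cover by affine `X_s` trivialising `E`, all for one power of `L`. -/
theorem exists_cover {L : X.Modules} (hL : CohB1.IsAmple L) {E : X.Modules} {r : ℕ}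
    (hE : FlatMod.IsFinLocFreeOfRank r E) :
    ∃ (m N : ℕ) (s : Fin N → (Coh.structureModule X ⟶ CohB1.tensorPow L (m + 1))),
      (∀ x : X, ∃ i, x ∈ CohB1.genLocus _ (s i)) ∧
      ∀ i, ∃ b : Fin r → Γ(E, CohB1.genLocus _ (s i)), IsBasisOn E (CohB1.genLocus _ (s i)) b := by
  haveI := hL.2.1
  choose U hxU b hb using fun y : X => Groth.L18.GrassGeom.exists_freeBasis hE y
  choose n s hxs hsU hs using fun y : X =>
    Groth.L18.Ample.exists_affine_genLocus_subset hL (U y : X.Opens) (hxU y)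
  obtain ⟨T, hT⟩ := isCompact_univ.elim_finite_subcover (fun y : X => (CohB1.genLocus _ (s y) : Set X))
    (fun y => (CohB1.genLocus _ (s y)).2) (fun y _ => Set.mem_iUnion.2 ⟨y, hxs y⟩)
  obtain ⟨M, hM⟩ : ∃ M, M = ∏ y ∈ T, (n y + 1) := ⟨_, rfl⟩
  obtain ⟨m, rfl⟩ : ∃ m, M = m + 1 :=
    ⟨M - 1, by have : 0 < M := hM ▸ Finset.prod_pos (fun y _ => Nat.succ_pos _); omega⟩
  have hstep : ∀ y : T, ∃ s' : Coh.structureModule X ⟶ CohB1.tensorPow L (m + 1),
      CohB1.genLocus _ s' = CohB1.genLocus _ (s y.1) := fun y => by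
    obtain ⟨c, hc⟩ : (n y.1 + 1) ∣ m + 1 := hM ▸ Finset.dvd_prod_of_mem (fun y => n y + 1) y.2
    obtain ⟨c', rfl⟩ : ∃ c', c = c' + 1 := ⟨c - 1, by rcases c with - | c; · simp at hc
                                                      omega⟩
    have hinv := Groth.L18.Ample.isInvertible_tensorPow hL.1 (n y.1 + 1)
    rw [hc]
    exact ⟨pw (s y.1) (c' + 1) ≫ (Groth.L00.Tensor.tensorPowMul L (n y.1 + 1) (c' + 1)).hom,
      (Groth.L16.genLocus_comp_iso _ _).trans (Groth.L18.Ample.genLocus_pw_succ hinv (s y.1) c')⟩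
  choose s' hs' using hstep
  let e := T.equivFin.symm
  refine ⟨m, T.card, fun i => s' (e i), fun x => ?_, fun i => ?_⟩
  · obtain ⟨y, hy, hxy⟩ := Set.mem_iUnion₂.1 (hT (Set.mem_univ x))
    refine ⟨e.symm ⟨y, hy⟩, ?_⟩
    show x ∈ CohB1.genLocus _ (s' (e (e.symm ⟨y, hy⟩)))
    rw [e.apply_symm_apply, hs']
    exact hxy
  · show ∃ b : Fin r → Γ(E, CohB1.genLocus _ (s' (e i))), _
    rw [hs']
    exact ⟨_, (hb _).mono (hsU _)⟩

/-- Products of `[E] [L]^{d} - r` vanish. -/
theorem exists_prod_eq_zero (hK : _root_.KRR.IsModel X K PK φK) {L : X.Modules} (hL : CohB1.IsAmple L)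
    {E : X.Modules} {r : ℕ} (hE : FlatMod.IsFinLocFreeOfRank r E) :
    ∃ (m N : ℕ) (k : Fin N → ℕ),
      ∏ i, ((r : K) - φK (_root_.KRR.cl X E) * φK (_root_.KRR.cl X L) ^ ((m + 1) * k i)) = 0 ∧
      (1 - φK (_root_.KRR.cl X L) ^ (m + 1)) ^ N = 0 := by
  haveI := hL.2.1
  haveI := Groth.L18.Ample.quasiSeparatedSpace_of_affine_genLocus hL.1 hL.2.2
  obtain ⟨m, N, s, hcov, hb⟩ := exists_cover hL hE
  have hEf := Groth.L18.KRRAmple.isFinLocFree_of_rank hE
  haveI := Groth.L29.DC.PCQCoh.isQCoh_of_isFinLocFree hEf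
  have hM := Groth.L18.Ample.isInvertible_tensorPow hL.1 (m + 1)
  choose b hb using hb
  choose k φ hφ using fun i => exists_trivialising hM (s i) (hb i)
  obtain ⟨hMp, hMc⟩ := Groth.L12.KRR.cl_tensorPow hK hL.1 (m + 1)
  have hMf := Groth.L16.Existence.isFinLocFree_of_isInvertible hM
  have hcov' : ∀ x : X, ∃ i ∈ (Finset.univ : Finset (Fin N)),
      ∃ y, (CohB1.genLocus _ (s i)).ι.base y = x := fun x => by
    obtain ⟨i, hi⟩ := hcov x
    exact ⟨i, Finset.mem_univ _, ⟨x, hi⟩, rfl⟩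
  refine ⟨m, N, k, ?_, ?_⟩
  · have := prod_sub_eq_zero hK Finset.univ (fun i => (CohB1.genLocus _ (s i)).ι) hcov'
      (fun _ => FlatMod.freeMod X r) (fun i => tw E _ (k i)) φ
      (fun _ => Groth.L18.KRRAmple.isFinLocFree_freeMod r) (fun i => (cl_tw hK hEf hMf (k i)).1) fun i _ => hφ i
    rw [← this]
    refine Finset.prod_congr rfl fun i _ => ?_
    rw [Groth.L18.KRRAmple.phi_freeMod hK, (cl_tw hK hEf hMf (k i)).2, hMc, ← pow_mul]
  · have hiso : ∀ i, IsIso ((Scheme.Modules.pullback (CohB1.genLocus _ (s i)).ι).map (s i)) := fun i => by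
      rw [← NatIso.isIso_map_iff (Scheme.Modules.restrictFunctorIsoPullback (CohB1.genLocus _ (s i)).ι) (s i)]
      exact (Groth.L18.GenLoc.isIso_restrict_iff_isFrame (s i) _).2 (Groth.L18.GenLoc.isFrame_genLocus (s i))
    have := prod_sub_eq_zero hK Finset.univ (fun i => (CohB1.genLocus _ (s i)).ι) hcov'
      (fun _ => Coh.structureModule X) (fun _ => CohB1.tensorPow L (m + 1)) s
      (fun _ => Groth.L12.Kvb.isFinLocFree_O) (fun _ => hMf) fun i _ => hiso i
    rw [Finset.prod_const, Finset.card_univ, Fintype.card_fin, hK.map_one, hMc] at this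
    exact this

include PK in
theorem eq_of_prod {u : K} (hu : IsNilpotent (1 - u)) {c w : K} {N : ℕ} (k : Fin N → ℕ)
    (h : ∏ i, (c - w * u ^ k i) = 0) : IsNilpotent (c - w) := by
  rw [← mem_nilradical, ← Ideal.Quotient.eq_zero_iff_mem] at hu ⊢
  set π := Ideal.Quotient.mk (nilradical K)
  have hu1 : π u = 1 := (sub_eq_zero.1 ((map_one π ▸ map_sub π 1 u).symm.trans hu)).symm
  have h' := congrArg π h
  simp only [map_prod, map_sub, map_mul, map_pow, hu1, one_pow, mul_one, map_zero, Finset.prod_const] at h'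
  rw [← map_sub, ← map_pow, Ideal.Quotient.eq_zero_iff_mem, mem_nilradical] at h'
  rw [Ideal.Quotient.eq_zero_iff_mem, mem_nilradical]
  exact IsNilpotent.of_pow h'

/-- The class of a bundle minus its rank is nilpotent. -/
theorem isNilpotent_cl_sub (hK : _root_.KRR.IsModel X K PK φK) {L : X.Modules} (hL : CohB1.IsAmple L)
    {E : X.Modules} {r : ℕ} (hE : FlatMod.IsFinLocFreeOfRank r E) :
    IsNilpotent (φK (_root_.KRR.cl X E) - (r : K)) := by
  obtain ⟨m, N, k, h, hu⟩ := exists_prod_eq_zero hK hL hE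
  simp only [pow_mul] at h
  exact (isNilpotent_neg_iff).1 (by simpa using eq_of_prod (PK := PK) ⟨N, hu⟩ k h)

/-- The augmentation ideal is nil. -/
theorem isNilpotent_of_aug_eq_zero (hK : _root_.KRR.IsModel X K PK φK) {L : X.Modules} (hL : CohB1.IsAmple L)
    {x : K} (hx : PK.aug x = 0) : IsNilpotent x := by
  obtain ⟨E, F, hE, hF, rfl⟩ := Groth.L12.KRR.exists_sub_cl hK x
  obtain ⟨r, hr⟩ := Groth.L18.KRRAmple.exists_rank hE
  obtain ⟨r', hr'⟩ := Groth.L18.KRRAmple.exists_rank hF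
  rw [map_sub, hK.aug_cl r E hr, hK.aug_cl r' F hr', sub_eq_zero] at hx
  obtain rfl : r = r' := by exact_mod_cast hx
  rw [show φK (_root_.KRR.cl X E) - φK (_root_.KRR.cl X F) =
    (φK (_root_.KRR.cl X E) - (r : K)) - (φK (_root_.KRR.cl X F) - (r : K)) by ring]
  exact (Commute.all _ _).isNilpotent_sub (isNilpotent_cl_sub hK hL hr) (isNilpotent_cl_sub hK hL hr')

end Groth.L12.KNil
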