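import Groth.Agent.L12.KNil.Exactness
import Groth.Agent.L12.Kvb.Rank
import Groth.Agent.L29.K.EulerDb

/-!
# A complex of bundles acyclic everywhere out of maps that are isomorphisms on a cover
-/

set_option autoImplicit false
set_option maxHeartbeats 400000
set_option linter.style.haveILetI false
set_option linter.unusedSectionVars false
set_option backward.isDefEq.respectTransparency false
set_option backward.isDefEq.respectTransparency.types false

universe v u

open CategoryTheory CategoryTheory.Limits AlgebraicGeometry ZeroObject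

attribute [local instance] HasDerivedCategory.standard

noncomputable section

namespace Groth.L12.KNil

open Groth.L00.Tensor (tensorIso tensorRightF tensorLeftF tensorMap tensorMap_comp)

variable {X : Scheme.{u}}

/-- A bounded complex of bundles. -/
structure Cx (X : Scheme.{u}) where
  /-- The terms. -/
  obj : ℤ → X.Modules
  /-- The differential. -/
  d : ∀ n, obj (n + 1) ⟶ obj n
  w : ∀ n, d (n + 1) ≫ d n = 0
  vb : ∀ n, FlatMod.IsFinLocFree (obj n)
  bdd : ∃ a b : ℤ, ∀ n, (n < a ∨ b < n) → IsZero (obj n)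

/-- Three consecutive terms. -/
def Cx.sc (C : Cx X) (n : ℤ) : ShortComplex X.Modules := ShortComplex.mk (C.d (n + 1)) (C.d n) (C.w n)

/-- Acyclic on an open. -/
def Cx.AcyclicOn (C : Cx X) {U : Scheme.{u}} (j : U ⟶ X) [IsOpenImmersion j] : Prop :=
  haveI := (exact_pull j).2.2
  ∀ n, ((C.sc n).map (Scheme.Modules.pullback j)).Exact

/-- `A ⊗ φ`. -/
def wl (A : X.Modules) {G F : X.Modules} (φ : G ⟶ F) : CohB1.tensorMod A G ⟶ CohB1.tensorMod A F :=
  tensorMap (𝟙 A) φ

/-- `d ⊗ F`. -/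
def wr (F : X.Modules) {A B : X.Modules} (d : A ⟶ B) : CohB1.tensorMod A F ⟶ CohB1.tensorMod B F :=
  tensorMap d (𝟙 F)

theorem wr_comp (F : X.Modules) {A B D : X.Modules} (d : A ⟶ B) (d' : B ⟶ D) :
    wr F (d ≫ d') = wr F d ≫ wr F d' := by
  rw [wr, wr, wr, ← tensorMap_comp, Category.id_comp]

theorem wr_zero {F : X.Modules} (hF : FlatMod.IsFinLocFree F) (A B : X.Modules) : wr F (0 : A ⟶ B) = 0 := by
  haveI := (exact_tensorRight hF).2.2
  exact (tensorRightF F).map_zero A B

theorem whisker {A B G F : X.Modules} (d : A ⟶ B) (φ : G ⟶ F) :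
    wl A φ ≫ wr F d = wr G d ≫ wl B φ := by
  rw [wl, wr, wr, wl, ← tensorMap_comp, ← tensorMap_comp]
  simp only [Category.id_comp, Category.comp_id]

section Cone

variable (C : Cx X) {G F : X.Modules} (φ : G ⟶ F)

/-- The differential of the cone. -/
def coneD (n : ℤ) : (CohB1.tensorMod (C.obj (n + 1 + 1)) F ⊞ CohB1.tensorMod (C.obj (n + 1)) G : X.Modules) ⟶
    (CohB1.tensorMod (C.obj (n + 1)) F ⊞ CohB1.tensorMod (C.obj n) G : X.Modules) :=
  biprod.desc (wr F (C.d (n + 1)) ≫ biprod.inl)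
    (biprod.lift (wl (C.obj (n + 1)) φ) (-wr G (C.d n)))

theorem inl_coneD (n : ℤ) : biprod.inl ≫ coneD C φ n = wr F (C.d (n + 1)) ≫ biprod.inl :=
  biprod.inl_desc _ _

theorem inr_coneD (n : ℤ) : biprod.inr ≫ coneD C φ n =
    biprod.lift (wl (C.obj (n + 1)) φ) (-wr G (C.d n)) :=
  biprod.inr_desc _ _

theorem coneD_fst (n : ℤ) : coneD C φ n ≫ biprod.fst =
    biprod.fst ≫ wr F (C.d (n + 1)) + biprod.snd ≫ wl (C.obj (n + 1)) φ := by
  refine biprod.hom_ext' _ _ ?_ ?_ <;> simp [coneD]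

theorem coneD_snd (n : ℤ) : coneD C φ n ≫ biprod.snd = -(biprod.snd ≫ wr G (C.d n)) := by
  refine biprod.hom_ext' _ _ ?_ ?_ <;> simp [coneD]

/-- The cone of `C ⊗ φ`, shifted. -/
def Cx.cone (hG : FlatMod.IsFinLocFree G) (hF : FlatMod.IsFinLocFree F) : Cx X where
  obj n := (CohB1.tensorMod (C.obj (n + 1)) F ⊞ CohB1.tensorMod (C.obj n) G : X.Modules)
  d n := coneD C φ n
  w n := by
    refine biprod.hom_ext' _ _ ?_ ?_
    · rw [← Category.assoc, inl_coneD, Category.assoc, inl_coneD, ← Category.assoc, ← wr_comp, C.w,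
        wr_zero hF, zero_comp, comp_zero]
    · rw [← Category.assoc, inr_coneD]
      refine biprod.hom_ext _ _ ?_ ?_
      · rw [Category.assoc, coneD_fst, Preadditive.comp_add, biprod.lift_fst_assoc, biprod.lift_snd_assoc,
          Preadditive.neg_comp, whisker, add_neg_cancel, comp_zero, zero_comp]
      · rw [Category.assoc, coneD_snd, Preadditive.comp_neg, biprod.lift_snd_assoc, Preadditive.neg_comp,
          neg_neg, ← wr_comp, C.w, wr_zero hG, comp_zero, zero_comp]
  vb n := Groth.L29.LocFree.biprod (Groth.L29.DC.isFinLocFree_tensor (C.vb _) hF)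
    (Groth.L29.DC.isFinLocFree_tensor (C.vb _) hG)
  bdd := by
    haveI := (exact_tensorRight hF).2.2
    haveI := (exact_tensorRight hG).2.2
    obtain ⟨a, b, h⟩ := C.bdd
    exact ⟨a - 1, b, fun n hn => (biprod_isZero_iff _ _).2
      ⟨(tensorRightF F).map_isZero (h (n + 1) (by omega)), (tensorRightF G).map_isZero (h n (by omega))⟩⟩

variable {U : Scheme.{u}} (j : U ⟶ X) [IsOpenImmersion j]

theorem split_pull {A B : X.Modules} {W : U.Modules} (y : W ⟶ (Scheme.Modules.pullback j).obj (A ⊞ B)) :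
    haveI := (exact_pull j).2.2
    y = (y ≫ (Scheme.Modules.pullback j).map biprod.fst) ≫ (Scheme.Modules.pullback j).map biprod.inl +
      (y ≫ (Scheme.Modules.pullback j).map biprod.snd) ≫ (Scheme.Modules.pullback j).map biprod.inr := by
  haveI := (exact_pull j).2.2
  simp only [Category.assoc, ← Functor.map_comp, ← Preadditive.comp_add, ← Functor.map_add, biprod.total,
    CategoryTheory.Functor.map_id, Category.comp_id]

theorem pull_lift {W A B : X.Modules} (f : W ⟶ A) (g : W ⟶ B) :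
    haveI := (exact_pull j).2.2
    (Scheme.Modules.pullback j).map (biprod.lift f g) =
      (Scheme.Modules.pullback j).map f ≫ (Scheme.Modules.pullback j).map biprod.inl +
        (Scheme.Modules.pullback j).map g ≫ (Scheme.Modules.pullback j).map biprod.inr := by
  haveI := (exact_pull j).2.2
  rw [biprod.lift_eq, Functor.map_add, Functor.map_comp, Functor.map_comp]

/-- The cone is acyclic where `φ` is an isomorphism. -/
theorem acyclicOn_cone_of_isIso (hG : FlatMod.IsFinLocFree G) (hF : FlatMod.IsFinLocFree F)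
    (h : IsIso ((Scheme.Modules.pullback j).map φ)) : (C.cone φ hG hF).AcyclicOn j := by
  intro n
  let P := Scheme.Modules.pullback j
  haveI : P.Additive := (exact_pull j).2.2
  haveI : ∀ m, IsIso (P.map (wl (C.obj m) φ)) := fun m => isIso_pull_tensorLeft j (C.vb m) φ h
  rw [ShortComplex.exact_iff_exact_up_to_refinements]
  intro W x hx
  change W ⟶ P.obj (CohB1.tensorMod (C.obj (n + 1 + 1)) F ⊞ CohB1.tensorMod (C.obj (n + 1)) G) at x
  change x ≫ P.map (coneD C φ n) = 0 at hx
  have h1 : (x ≫ P.map biprod.fst) ≫ P.map (wr F (C.d (n + 1))) +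
      (x ≫ P.map biprod.snd) ≫ P.map (wl (C.obj (n + 1)) φ) = 0 := by
    simp only [Category.assoc, ← Functor.map_comp, ← Preadditive.comp_add, ← Functor.map_add, ← coneD_fst]
    rw [Functor.map_comp, ← Category.assoc, hx, zero_comp]
  let c := (x ≫ P.map biprod.fst) ≫ inv (P.map (wl (C.obj (n + 1 + 1)) φ))
  have hc : c ≫ P.map (wl (C.obj (n + 1 + 1)) φ) = x ≫ P.map biprod.fst := by simp [c]
  have hb : -(c ≫ P.map (wr G (C.d (n + 1)))) = x ≫ P.map biprod.snd := by
    rw [← cancel_mono (P.map (wl (C.obj (n + 1)) φ)), Preadditive.neg_comp, Category.assoc,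
      ← Functor.map_comp, ← whisker, Functor.map_comp, ← Category.assoc, hc]
    exact (eq_neg_of_add_eq_zero_right h1).symm
  refine ⟨W, 𝟙 W, inferInstance, c ≫ P.map biprod.inr, ?_⟩
  change 𝟙 W ≫ x = (c ≫ P.map biprod.inr) ≫ P.map (coneD C φ (n + 1))
  rw [Category.id_comp, Category.assoc, ← Functor.map_comp, inr_coneD]
  rw [pull_lift, Preadditive.comp_add, ← Category.assoc, hc, ← Category.assoc, Functor.map_neg, Preadditive.comp_neg,
    hb]
  exact split_pull (j := j) x

/-- The cone is acyclic where `C` is. -/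
theorem acyclicOn_cone (hG : FlatMod.IsFinLocFree G) (hF : FlatMod.IsFinLocFree F) (h : C.AcyclicOn j) :
    (C.cone φ hG hF).AcyclicOn j := by
  intro n
  let P := Scheme.Modules.pullback j
  haveI : P.Additive := (exact_pull j).2.2
  haveI := (exact_tensorRight hF).2.2
  haveI := (exact_tensorRight hG).2.2
  have eG := exact_pull_tensorRight j hG (C.sc n) (h n)
  have eF := exact_pull_tensorRight j hF (C.sc (n + 1)) (h (n + 1))
  rw [ShortComplex.exact_iff_exact_up_to_refinements]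
  intro W x hx
  change W ⟶ P.obj (CohB1.tensorMod (C.obj (n + 1 + 1)) F ⊞ CohB1.tensorMod (C.obj (n + 1)) G) at x
  change x ≫ P.map (coneD C φ n) = 0 at hx
  have h1 : (x ≫ P.map biprod.fst) ≫ P.map (wr F (C.d (n + 1))) +
      (x ≫ P.map biprod.snd) ≫ P.map (wl (C.obj (n + 1)) φ) = 0 := by
    simp only [Category.assoc, ← Functor.map_comp, ← Preadditive.comp_add, ← Functor.map_add, ← coneD_fst]
    rw [Functor.map_comp, ← Category.assoc, hx, zero_comp]
  have h2 : (x ≫ P.map biprod.snd) ≫ P.map (wr G (C.d n)) = 0 := by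
    have h2' : x ≫ P.map (coneD C φ n ≫ biprod.snd) = 0 := by
      rw [Functor.map_comp, ← Category.assoc, hx, zero_comp]
    rw [coneD_snd, Functor.map_neg, Preadditive.comp_neg, neg_eq_zero, Functor.map_comp, ← Category.assoc] at h2'
    exact h2'
  obtain ⟨W₁, π₁, hπ₁, c, hc⟩ := eG.exact_up_to_refinements (x ≫ P.map biprod.snd) h2
  change W₁ ⟶ P.obj (CohB1.tensorMod (C.obj (n + 1 + 1)) G) at c
  change π₁ ≫ x ≫ P.map biprod.snd = c ≫ P.map (wr G (C.d (n + 1))) at hc
  have h3 : (π₁ ≫ x ≫ P.map biprod.fst + c ≫ P.map (wl (C.obj (n + 1 + 1)) φ)) ≫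
      P.map (wr F (C.d (n + 1))) = 0 := by
    rw [Preadditive.add_comp, Category.assoc c, ← Functor.map_comp, whisker, Functor.map_comp, ← Category.assoc c,
      ← hc, Category.assoc, Category.assoc, Category.assoc, Category.assoc, ← Preadditive.comp_add]
    have h1' : x ≫ P.map biprod.fst ≫ P.map (wr F (C.d (n + 1))) +
        x ≫ P.map biprod.snd ≫ P.map (wl (C.obj (n + 1)) φ) = 0 := by
      simpa only [Category.assoc] using h1
    rw [h1', comp_zero]
  obtain ⟨W₂, π₂, hπ₂, e, he⟩ := eF.exact_up_to_refinements _ h3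
  change W₂ ⟶ P.obj (CohB1.tensorMod (C.obj (n + 1 + 1 + 1)) F) at e
  change π₂ ≫ (π₁ ≫ x ≫ P.map biprod.fst + c ≫ P.map (wl (C.obj (n + 1 + 1)) φ)) =
    e ≫ P.map (wr F (C.d (n + 1 + 1))) at he
  refine ⟨W₂, π₂ ≫ π₁, inferInstance, e ≫ P.map biprod.inl + (-(π₂ ≫ c)) ≫ P.map biprod.inr, ?_⟩
  change (π₂ ≫ π₁) ≫ x = (e ≫ P.map biprod.inl + (-(π₂ ≫ c)) ≫ P.map biprod.inr) ≫ P.map (coneD C φ (n + 1))
  rw [Preadditive.add_comp, Category.assoc e, Category.assoc (-(π₂ ≫ c)), ← Functor.map_comp, ← Functor.map_comp,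
    inl_coneD, inr_coneD, Functor.map_comp, ← Category.assoc e, ← he, Preadditive.neg_comp]
  have hx' := split_pull (j := j) ((π₂ ≫ π₁) ≫ x)
  rw [pull_lift]
  simp only [Category.assoc] at hx' ⊢
  rw [hx']
  simp only [P] at hc ⊢
  simp only [Category.assoc, Preadditive.add_comp, Preadditive.comp_add, Preadditive.neg_comp, Preadditive.comp_neg,
    Functor.map_neg, reassoc_of% hc]
  abel

end Cone

section Euler

variable {K : Type v} [CommRing K] [LambdaRing.LambdaOps K] {PK : LambdaRing.PosStructure K}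
  {φK : SGA6.Kvb X →+ K}

variable (φK) in
/-- The Euler characteristic. -/
def Cx.chi (C : Cx X) : K := ∑ᶠ n : ℤ, (n.negOnePow : ℤ) • φK (_root_.KRR.cl X (C.obj n))

theorem cl_eq_zero {M : X.Modules} (h : IsZero M) : φK (_root_.KRR.cl X M) = 0 := by
  rw [show _root_.KRR.cl X M = 0 from Groth.L29.KSub.clSub_zero (_root_.KRR.vbP X) h
    (Groth.L29.LocFree.of_isZero h), map_zero]

theorem finite_supp {f : ℤ → K} (h : ∃ a b : ℤ, ∀ n, (n < a ∨ b < n) → f n = 0) :
    (Function.support fun n : ℤ => (n.negOnePow : ℤ) • f n).Finite := by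
  obtain ⟨a, b, hab⟩ := h
  refine (Set.finite_Icc a b).subset fun n hn => ?_
  by_contra hc
  rw [Set.mem_Icc] at hc
  exact hn (show (n.negOnePow : ℤ) • f n = 0 by rw [hab n (by omega), smul_zero])

theorem finsum_shift (f : ℤ → K) :
    ∑ᶠ n : ℤ, (n.negOnePow : ℤ) • f (n + 1) = -∑ᶠ n : ℤ, (n.negOnePow : ℤ) • f n := by
  rw [← finsum_neg_distrib]
  exact finsum_eq_of_bijective (· + 1) (Equiv.addRight (1 : ℤ)).bijective fun n => by
    simp [Int.negOnePow_succ]

theorem chi_cone [ConnectedSpace X] (hK : _root_.KRR.IsModel X K PK φK) (C : Cx X) {G F : X.Modules} (φ : G ⟶ F)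
    (hG : FlatMod.IsFinLocFree G) (hF : FlatMod.IsFinLocFree F) :
    (C.cone φ hG hF).chi φK = C.chi φK * (φK (_root_.KRR.cl X G) - φK (_root_.KRR.cl X F)) := by
  obtain ⟨a, b, hab⟩ := C.bdd
  let f : ℤ → K := fun n => φK (_root_.KRR.cl X (C.obj n))
  have hf : ∀ n, (n < a ∨ b < n) → f n = 0 := fun n hn => cl_eq_zero (hab n hn)
  have e : ∀ n, φK (_root_.KRR.cl X ((C.cone φ hG hF).obj n)) =
      f (n + 1) * φK (_root_.KRR.cl X F) + f n * φK (_root_.KRR.cl X G) := fun n => by
    have h1 := Groth.L29.DC.isFinLocFree_tensor (C.vb (n + 1)) hF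
    have h2 := Groth.L29.DC.isFinLocFree_tensor (C.vb n) hG
    show φK (_root_.KRR.cl X (CohB1.tensorMod (C.obj (n + 1)) F ⊞ CohB1.tensorMod (C.obj n) G)) = _
    rw [Groth.L12.Kvb.cl_biprod h1 h2, map_add]
    exact congrArg₂ (· + ·) (hK.map_mul _ _ (C.vb _) hF).symm (hK.map_mul _ _ (C.vb _) hG).symm
  show ∑ᶠ n : ℤ, (n.negOnePow : ℤ) • φK (_root_.KRR.cl X ((C.cone φ hG hF).obj n)) = _
  simp only [e, smul_add]
  rw [finsum_add_distrib
      (finite_supp (f := fun n => f (n + 1) * φK (_root_.KRR.cl X F))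
        ⟨a - 1, b, fun n hn => by rw [hf _ (by omega), zero_mul]⟩)
      (finite_supp (f := fun n => f n * φK (_root_.KRR.cl X G)) ⟨a, b, fun n hn => by rw [hf n hn, zero_mul]⟩),
    finsum_shift (fun n => f n * φK (_root_.KRR.cl X F))]
  simp only [← smul_mul_assoc, ← finsum_mul' _ _ (finite_supp ⟨a, b, hf⟩)]
  rw [Cx.chi, mul_sub]
  ring

theorem chi_eq_zero (C : Cx X) {ι : Type*} {U : ι → Scheme.{u}} (j : ∀ i, U i ⟶ X) [∀ i, IsOpenImmersion (j i)]
    (hcov : ∀ x : X, ∃ i y, (j i).base y = x) (h : ∀ i, C.AcyclicOn (j i)) : C.chi φK = 0 := by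
  have hex : ∀ n, (C.sc n).Exact := fun n => by
    rw [ShortComplex.exact_iff_isZero_homology]
    refine Groth.L21.Mod.isZero_of_restrict j hcov _ fun i => ?_
    obtain ⟨p1, p2, p3⟩ := exact_pull (j i)
    have h' := h i n
    rw [ShortComplex.exact_iff_isZero_homology] at h'
    exact (h'.of_iso ((C.sc n).mapHomologyIso (Scheme.Modules.pullback (j i))).symm).of_iso
      ((Scheme.Modules.restrictFunctorIsoPullback (j i)).app _)
  obtain ⟨a, b, hab⟩ := C.bdd
  let Z : ℤ → X.Modules := fun n => kernel (C.d n)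
  have hS := fun n => Groth.L29.EulerDb.shortExact_ker (C.d (n + 1)) (C.d n) (C.w n) (hex n)
  have hZlow : ∀ n, n < a - 1 → IsZero (Z n) := fun n hn =>
    IsZero.of_mono (kernel.ι (C.d n)) (hab (n + 1) (Or.inl (by omega)))
  have hZvb' : ∀ (k : ℕ) (n : ℤ), n ≤ a - 2 + k → FlatMod.IsFinLocFree (Z n) := by
    intro k
    induction k with
    | zero => exact fun n hn => Groth.L29.LocFree.of_isZero (hZlow n (by omega))
    | succ k ih =>
      intro n hn
      obtain ⟨m, rfl⟩ : ∃ m, n = m + 1 := ⟨n - 1, by omega⟩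
      let l : C.obj (m + 1 + 1) ⟶ Z m := kernel.lift (C.d m) (C.d (m + 1)) (C.w m)
      haveI : Epi l := (hS m).epi_g
      exact Groth.L29.LocFree.of_iso ((kernelIsKernel l).conePointUniqueUpToIso (hS m).fIsKernel)
        (Groth.L29.DC.isFinLocFree_kernel_of_epi l (C.vb _) (ih m (by omega)))
  have hZvb : ∀ n, FlatMod.IsFinLocFree (Z n) := fun n => hZvb' (n - (a - 2)).toNat n (by omega)
  let z : ℤ → K := fun n => φK (_root_.KRR.cl X (Z n))
  let c : ℤ → K := fun n => φK (_root_.KRR.cl X (C.obj n))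
  have hc : ∀ n, c (n + 1 + 1) = z (n + 1) + z n := fun n => by
    have := congrArg φK (Groth.L29.KSub.clSub_shortExact (_root_.KRR.vbP X) (hS n) (hZvb (n + 1)) (C.vb _) (hZvb n))
    rw [map_add] at this
    exact this
  have hz : ∀ n, (n < a - 1 ∨ b ≤ n) → z n = 0 := fun n hn =>
    cl_eq_zero (IsZero.of_mono (kernel.ι (C.d n)) (hab (n + 1) (by omega)))
  have e2 : ∑ᶠ n : ℤ, (n.negOnePow : ℤ) • c (n + 1 + 1) = C.chi φK := by
    rw [finsum_shift (fun n => c (n + 1)), finsum_shift c, neg_neg]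
    rfl
  rw [← e2]
  simp only [hc, smul_add]
  rw [finsum_add_distrib (finite_supp (f := fun n => z (n + 1)) ⟨a - 2, b, fun n hn => hz _ (by omega)⟩)
    (finite_supp (f := z) ⟨a - 1, b, fun n hn => hz n (by omega)⟩), finsum_shift z, neg_add_cancel]

/-- The structure sheaf in degree zero. -/
def Cx.unit (X : Scheme.{u}) : Cx X where
  obj n := if n = 0 then Coh.structureModule X else 0
  d _ := 0
  w _ := zero_comp
  vb n := by
    show FlatMod.IsFinLocFree (if n = 0 then _ else _)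
    split_ifs
    · exact Groth.L12.Kvb.isFinLocFree_O
    · exact Groth.L29.LocFree.of_isZero (isZero_zero _)
  bdd := ⟨0, 0, fun n hn => by rw [if_neg (by omega)]; exact isZero_zero _⟩

theorem chi_unit (hK : _root_.KRR.IsModel X K PK φK) : (Cx.unit X).chi φK = 1 := by
  rw [Cx.chi, finsum_eq_single _ (0 : ℤ) fun n hn => ?_]
  · show (((0 : ℤ).negOnePow : ℤˣ) : ℤ) • φK (_root_.KRR.cl X (if (0 : ℤ) = 0 then Coh.structureModule X else 0)) = 1
    simp [hK.map_one]
  · show ((n.negOnePow : ℤˣ) : ℤ) • φK (_root_.KRR.cl X (if n = 0 then Coh.structureModule X else 0)) = 0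
    rw [if_neg hn, cl_eq_zero (isZero_zero _), smul_zero]

/-- A product of differences vanishes when the maps are isomorphisms on the members of a cover. -/
theorem prod_sub_eq_zero [ConnectedSpace X] (hK : _root_.KRR.IsModel X K PK φK) {ι : Type*} (s : Finset ι) {U : ι → Scheme.{u}}
    (j : ∀ i, U i ⟶ X) [∀ i, IsOpenImmersion (j i)] (hcov : ∀ x : X, ∃ i ∈ s, ∃ y, (j i).base y = x)
    (G F : ι → X.Modules) (φ : ∀ i, G i ⟶ F i) (hG : ∀ i, FlatMod.IsFinLocFree (G i))
    (hF : ∀ i, FlatMod.IsFinLocFree (F i)) (hiso : ∀ i ∈ s, IsIso ((Scheme.Modules.pullback (j i)).map (φ i))) :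
    ∏ i ∈ s, (φK (_root_.KRR.cl X (G i)) - φK (_root_.KRR.cl X (F i))) = 0 := by
  classical
  have key : ∀ t : Finset ι, t ⊆ s → ∃ C : Cx X, (∀ i ∈ t, C.AcyclicOn (j i)) ∧
      C.chi φK = ∏ i ∈ t, (φK (_root_.KRR.cl X (G i)) - φK (_root_.KRR.cl X (F i))) := fun t => by
    induction t using Finset.induction_on with
    | empty => exact fun _ => ⟨Cx.unit X, fun i hi => absurd hi (Finset.notMem_empty i), chi_unit hK⟩
    | @insert i t hit ih =>
      intro hsub
      obtain ⟨C, hC, hchi⟩ := ih ((Finset.subset_insert i t).trans hsub)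
      refine ⟨C.cone (φ i) (hG i) (hF i), fun k hk => ?_, ?_⟩
      · rcases Finset.mem_insert.1 hk with rfl | hk
        · exact acyclicOn_cone_of_isIso C _ _ (hG k) (hF k) (hiso k (hsub (Finset.mem_insert_self _ _)))
        · exact acyclicOn_cone C _ _ (hG i) (hF i) (hC k hk)
      · rw [chi_cone hK, hchi, Finset.prod_insert hit, mul_comm]
  obtain ⟨C, hC, hchi⟩ := key s subset_rfl
  rw [← hchi]
  refine chi_eq_zero C (fun i : s => j i.1) (fun x => ?_) fun i => hC i.1 i.2
  obtain ⟨i, hi, y, hy⟩ := hcov x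
  exact ⟨⟨i, hi⟩, y, hy⟩

end Euler

end Groth.L12.KNil
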