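import Groth.Agent.L17.ProjFormula
import Groth.Agent.L29.DCoh.PullTensor
import Groth.Agent.L21.Mod.Locality
import Groth.Agent.L17.FlatBase.CxTools

/-!
# Tensoring with bundles is exact, and what vanishes on an open stays so
-/

set_option autoImplicit false
set_option maxHeartbeats 400000
set_option linter.style.haveILetI false
set_option linter.unusedSectionVars false
set_option backward.isDefEq.respectTransparency false
set_option backward.isDefEq.respectTransparency.types false

universe u

open CategoryTheory CategoryTheory.Limits AlgebraicGeometry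

noncomputable section

namespace Groth.L12.KNil

open Groth.L00.Tensor (tensorIso tensorRightF tensorLeftF tensorFlipIso tensorComm)

variable {X : Scheme.{u}}

theorem exact_tensorLeft {M : X.Modules} (hM : FlatMod.IsFinLocFree M) :
    PreservesFiniteLimits (tensorLeftF M) ∧ PreservesFiniteColimits (tensorLeftF M) ∧ (tensorLeftF M).Additive := by
  haveI := Groth.L17.Duality.hasSheafHom M
  haveI : (tensorRightF M).IsRightAdjoint := (Groth.L17.Duality.dualAdj M hM).isRightAdjoint
  haveI : PreservesColimitsOfSize.{u, u} (tensorLeftF M) := preservesColimits_of_natIso (tensorFlipIso M)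
  haveI : (tensorLeftF M).IsRightAdjoint := Functor.isRightAdjoint_of_iso (tensorFlipIso M)
  haveI := preservesBinaryBiproducts_of_preservesBinaryProducts (tensorLeftF M)
  exact ⟨inferInstance, inferInstance, Functor.additive_of_preservesBinaryBiproducts _⟩

theorem exact_tensorRight {M : X.Modules} (hM : FlatMod.IsFinLocFree M) :
    PreservesFiniteLimits (tensorRightF M) ∧ PreservesFiniteColimits (tensorRightF M) ∧ (tensorRightF M).Additive := by
  obtain ⟨h1, h2, h3⟩ := exact_tensorLeft hM
  exact ⟨preservesFiniteLimits_of_natIso (tensorFlipIso M).symm,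
    ⟨fun J _ _ => preservesColimitsOfShape_of_natIso (tensorFlipIso M).symm⟩,
    Functor.additive_of_iso (tensorFlipIso M).symm⟩

variable {U : Scheme.{u}} (j : U ⟶ X)

theorem isZero_pull_tensor_left {M : X.Modules} (h : IsZero ((Scheme.Modules.pullback j).obj M)) (N : X.Modules) :
    IsZero ((Scheme.Modules.pullback j).obj (CohB1.tensorMod M N)) :=
  ((tensorRightF _).map_isZero h).of_iso (Groth.L29.DC.PullTensor.pullTensor j M N).symm

theorem isZero_pull_tensor_right {N : X.Modules} (h : IsZero ((Scheme.Modules.pullback j).obj N)) (M : X.Modules) :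
    IsZero ((Scheme.Modules.pullback j).obj (CohB1.tensorMod M N)) :=
  (isZero_pull_tensor_left j h M).of_iso ((Scheme.Modules.pullback j).mapIso (tensorComm M N))

variable [IsOpenImmersion j]

/-- Restriction to an open is exact. -/
theorem exact_pull : PreservesFiniteLimits (Scheme.Modules.pullback j) ∧
    PreservesFiniteColimits (Scheme.Modules.pullback j) ∧ (Scheme.Modules.pullback j).Additive := by
  haveI : Flat j := inferInstance
  exact ⟨Groth.L17.CxTools.preservesFiniteLimits_pullback j, Groth.L17.CxTools.preservesFiniteColimits_pullback j,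
    Groth.L17.CxTools.additive_pullback j⟩

/-- Tensoring keeps isomorphisms over an open. -/
theorem isIso_pull_tensorLeft {M : X.Modules} (hM : FlatMod.IsFinLocFree M) {A B : X.Modules} (ψ : A ⟶ B)
    (h : IsIso ((Scheme.Modules.pullback j).map ψ)) :
    IsIso ((Scheme.Modules.pullback j).map ((tensorLeftF M).map ψ)) := by
  obtain ⟨h1, h2, h3⟩ := exact_tensorLeft hM
  obtain ⟨p1, p2, p3⟩ := exact_pull j
  have hk : IsZero (kernel ((Scheme.Modules.pullback j).map ((tensorLeftF M).map ψ))) := by
    have hk0 : IsZero ((Scheme.Modules.pullback j).obj (kernel ψ)) :=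
      (isZero_kernel_of_mono ((Scheme.Modules.pullback j).map ψ)).of_iso (PreservesKernel.iso _ ψ)
    exact (isZero_pull_tensor_right j hk0 M).of_iso
      ((PreservesKernel.iso (Scheme.Modules.pullback j) ((tensorLeftF M).map ψ)).symm ≪≫
        (Scheme.Modules.pullback j).mapIso (PreservesKernel.iso (tensorLeftF M) ψ).symm)
  have hc : IsZero (cokernel ((Scheme.Modules.pullback j).map ((tensorLeftF M).map ψ))) := by
    have hc0 : IsZero ((Scheme.Modules.pullback j).obj (cokernel ψ)) :=
      (isZero_cokernel_of_epi ((Scheme.Modules.pullback j).map ψ)).of_iso (PreservesCokernel.iso _ ψ)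
    exact (isZero_pull_tensor_right j hc0 M).of_iso
      ((PreservesCokernel.iso (Scheme.Modules.pullback j) ((tensorLeftF M).map ψ)).symm ≪≫
        (Scheme.Modules.pullback j).mapIso (PreservesCokernel.iso (tensorLeftF M) ψ).symm)
  haveI := Preadditive.mono_of_isZero_kernel _ hk
  haveI := Preadditive.epi_of_isZero_cokernel _ hc
  exact isIso_of_mono_of_epi _

/-- Tensoring keeps exactness over an open. -/
theorem exact_pull_tensorRight {M : X.Modules} (hM : FlatMod.IsFinLocFree M) (S : ShortComplex X.Modules)
    (h : haveI := (exact_pull j).2.2; (S.map (Scheme.Modules.pullback j)).Exact) :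
    haveI := (exact_pull j).2.2
    haveI := (exact_tensorRight hM).2.2
    ((S.map (tensorRightF M)).map (Scheme.Modules.pullback j)).Exact := by
  obtain ⟨h1, h2, h3⟩ := exact_tensorRight hM
  obtain ⟨p1, p2, p3⟩ := exact_pull j
  rw [ShortComplex.exact_iff_isZero_homology] at h ⊢
  refine IsZero.of_iso ?_ ((S.map (tensorRightF M)).mapHomologyIso (Scheme.Modules.pullback j) ≪≫
    (Scheme.Modules.pullback j).mapIso (S.mapHomologyIso (tensorRightF M)))
  exact isZero_pull_tensor_left j (h.of_iso (S.mapHomologyIso (Scheme.Modules.pullback j)).symm) M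

end Groth.L12.KNil
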