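import Groth.Agent.L12.KNil.Cube
import Groth.Agent.L12.KRR.Pull
import Groth.Agent.L19.DivisorDifference

/-!
# Products of more than `dim X` classes `[M] - 1` vanish
-/

set_option autoImplicit false
set_option maxHeartbeats 400000
set_option linter.style.haveILetI false
set_option linter.unusedSectionVars false
set_option backward.isDefEq.respectTransparency false
set_option backward.isDefEq.respectTransparency.types false

universe v u

open CategoryTheory CategoryTheory.Limits AlgebraicGeometry TopologicalSpace Opposite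

attribute [local instance] HasDerivedCategory.standard

noncomputable section

namespace Groth.L12.KNil

variable {X : Scheme.{u}}

/-- The dimension of the closure of a point. -/
def ptDim (z : X) : ℕ∞ :=
  Order.height (⟨closure {z}, isIrreducible_singleton.closure, isClosed_closure⟩ : IrreducibleCloseds X)

theorem ptDim_le {d : ℕ} (hd : topologicalKrullDim ↥X ≤ (d : WithBot ℕ∞)) (z : X) : ptDim z ≤ d := by
  have := (Order.height_le_krullDim (⟨closure {z}, isIrreducible_singleton.closure, isClosed_closure⟩ :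
    IrreducibleCloseds X)).trans hd
  exact WithBot.coe_le_coe.1 this

theorem ptDim_lt {z η : X} (h : z ∈ closure {η}) (hne : z ≠ η) (hfin : ptDim η ≠ ⊤) : ptDim z < ptDim η := by
  have hlt : (⟨closure {z}, isIrreducible_singleton.closure, isClosed_closure⟩ : IrreducibleCloseds X) <
      ⟨closure {η}, isIrreducible_singleton.closure, isClosed_closure⟩ := by
    refine lt_of_le_of_ne (isClosed_closure.closure_subset_iff.2 (Set.singleton_subset_iff.2 h)) fun he => hne ?_
    exact (inseparable_iff_closure_eq.2 (congrArg (fun T : IrreducibleCloseds X => (T : Set X)) he)).eq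
  refine Order.height_strictMono hlt ?_
  exact lt_of_le_of_lt (Order.height_mono hlt.le) (lt_top_iff_ne_top.2 hfin)

theorem exists_generic [IsNoetherian X] (Z : Set X) (hZ : IsClosed Z) :
    ∃ E : Set X, E.Finite ∧ E ⊆ Z ∧ ∀ z ∈ Z, ∃ η ∈ E, z ∈ closure {η} := by
  obtain ⟨T, hTf, hTc, hTi, hTZ⟩ := NoetherianSpace.exists_finite_set_isClosed_irreducible hZ
  choose η hη using fun t : T => QuasiSober.sober (hTi t.1 t.2) (hTc t.1 t.2)
  haveI := hTf.to_subtype
  refine ⟨Set.range η, Set.finite_range _, ?_, fun z hz => ?_⟩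
  · rintro _ ⟨t, rfl⟩
    exact hTZ.ge (Set.mem_sUnion.2 ⟨t.1, t.2, (hη t).mem⟩)
  · obtain ⟨t, ht, hzt⟩ := Set.mem_sUnion.1 (hTZ.le hz)
    exact ⟨η ⟨t, ht⟩, ⟨_, rfl⟩, (hη ⟨t, ht⟩).def.ge hzt⟩

variable [IsNoetherian X] [ConnectedSpace X] {K : Type v} [CommRing K] [LambdaRing.LambdaOps K]
  {PK : LambdaRing.PosStructure K} {φK : SGA6.Kvb X →+ K}

/-- A complex acyclic off `Z`. -/
def AcyclicOff (C : Cx X) (Z : Set X) : Prop :=
  ∀ x, x ∉ Z → ∃ U : X.Opens, x ∈ U ∧ C.AcyclicOn U.ι

theorem chi_mul_prod_eq_zero (hK : _root_.KRR.IsModel X K PK φK) {L : X.Modules} (hL : CohB1.IsAmple L) :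
    ∀ (Ms : List X.Modules), (∀ M ∈ Ms, PicF.IsInvertible M) → ∀ (Z : Set X), IsClosed Z →
      (∀ z ∈ Z, ptDim z < (Ms.length : ℕ∞)) → ∀ C : Cx X, AcyclicOff C Z →
      C.chi φK * (Ms.map fun M => φK (_root_.KRR.cl X M) - 1).prod = 0
  | [], _, Z, _, hdim, C, hC => by
    have hZ : ∀ x, x ∉ Z := fun x hx => by simpa using hdim x hx
    choose U hxU hU using fun x => hC x (hZ x)
    rw [chi_eq_zero C (fun x => (U x).ι) (fun x => ⟨x, ⟨x, hxU x⟩, rfl⟩) hU, zero_mul]
  | M :: Ms, hMs, Z, hZc, hdim, C, hC => by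
    obtain ⟨E, hEf, hEZ, hE⟩ := exists_generic Z hZc
    obtain ⟨K₁, K₂, h₁, h₂, u, v, hu, hv, ⟨e⟩⟩ :=
      Groth.L19.DivisorDifference.exists_difference hL (hMs M (List.mem_cons_self ..)) E hEf
    have key : ∀ (K' : X.Modules), PicF.IsInvertible K' → ∀ w : Coh.structureModule X ⟶ K',
        E ⊆ CohB1.genLocus K' w →
          C.chi φK * (1 - φK (_root_.KRR.cl X K')) * (Ms.map fun M => φK (_root_.KRR.cl X M) - 1).prod = 0 := by
      intro K' hK' w hw
      have hf := Groth.L16.Existence.isFinLocFree_of_isInvertible hK'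
      rw [show (1 : K) - φK (_root_.KRR.cl X K') =
        φK (_root_.KRR.cl X (Coh.structureModule X)) - φK (_root_.KRR.cl X K') by rw [hK.map_one],
        ← chi_cone hK C w Groth.L12.Kvb.isFinLocFree_O hf]
      refine chi_mul_prod_eq_zero hK hL Ms (fun N hN => hMs N (List.mem_cons_of_mem _ hN))
        (Z \ (CohB1.genLocus K' w : Set X)) (hZc.sdiff (CohB1.genLocus K' w).2) (fun z hz => ?_) _ fun x hx => ?_
      · obtain ⟨η, hηE, hzη⟩ := hE z hz.1
        have hη := hdim η (hEZ hηE)
        have hlt := ptDim_lt hzη (fun he => hz.2 (he ▸ hw hηE)) (ne_top_of_lt hη)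
        rw [List.length_cons, Nat.cast_succ] at hη
        exact hlt.trans_le (Order.le_of_lt_add_one hη)
      · by_cases hxG : x ∈ CohB1.genLocus K' w
        · refine ⟨CohB1.genLocus K' w, hxG, acyclicOn_cone_of_isIso C w _ _ hf ?_⟩
          rw [← NatIso.isIso_map_iff (Scheme.Modules.restrictFunctorIsoPullback (CohB1.genLocus K' w).ι) w]
          exact (Groth.L18.GenLoc.isIso_restrict_iff_isFrame w _).2 (Groth.L18.GenLoc.isFrame_genLocus w)
        · obtain ⟨U, hxU, hU⟩ := hC x fun hxZ => hx ⟨hxZ, hxG⟩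
          exact ⟨U, hxU, acyclicOn_cone C w _ _ hf hU⟩
    have h2f := Groth.L16.Existence.isFinLocFree_of_isInvertible h₂
    have hMf := Groth.L16.Existence.isFinLocFree_of_isInvertible (hMs M (List.mem_cons_self ..))
    have hmul : φK (_root_.KRR.cl X M) * φK (_root_.KRR.cl X K₂) = φK (_root_.KRR.cl X K₁) := by
      rw [hK.map_mul M K₂ hMf h2f]
      exact congrArg φK (Groth.L12.Kvb.cl_iso e (Groth.L29.DC.isFinLocFree_tensor hMf h2f))
    obtain ⟨N, hN, ⟨eN⟩⟩ := Groth.L08.Cube.exists_inverse h₂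
    have hunit : φK (_root_.KRR.cl X K₂) * φK (_root_.KRR.cl X N) = 1 := by
      rw [hK.map_mul K₂ N h2f (Groth.L16.Existence.isFinLocFree_of_isInvertible hN), ← hK.map_one]
      exact congrArg φK (Groth.L12.Kvb.cl_iso eN
        (Groth.L29.DC.isFinLocFree_tensor h2f (Groth.L16.Existence.isFinLocFree_of_isInvertible hN)))
    rw [List.map_cons, List.prod_cons]
    linear_combination φK (_root_.KRR.cl X N) * (key K₂ h₂ v hv) - φK (_root_.KRR.cl X N) * (key K₁ h₁ u hu) +
      φK (_root_.KRR.cl X N) * C.chi φK * (Ms.map fun M => φK (_root_.KRR.cl X M) - 1).prod * hmul -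
      C.chi φK * (φK (_root_.KRR.cl X M) - 1) * (Ms.map fun M => φK (_root_.KRR.cl X M) - 1).prod * hunit

/-- More than `dim X` factors `[M] - 1` multiply to zero. -/
theorem prod_line_sub_one_eq_zero (hK : _root_.KRR.IsModel X K PK φK) {L : X.Modules} (hL : CohB1.IsAmple L)
    {d : ℕ} (hd : topologicalKrullDim ↥X ≤ (d : WithBot ℕ∞)) (Ms : List X.Modules)
    (hMs : ∀ M ∈ Ms, PicF.IsInvertible M) (hlen : d < Ms.length) :
    (Ms.map fun M => φK (_root_.KRR.cl X M) - 1).prod = 0 := by
  have h := chi_mul_prod_eq_zero hK hL Ms hMs Set.univ isClosed_univ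
    (fun z _ => (ptDim_le hd z).trans_lt (by exact_mod_cast hlen)) (Cx.unit X) fun x hx => absurd (Set.mem_univ x) hx
  rwa [chi_unit hK, one_mul] at h

end Groth.L12.KNil
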